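import Groth.Agent.MultCentralLib.Descent
import Groth.Agent.SplitDiagLib.Tower
import Groth.Agent.UnipH7.ConnBC
import Mathlib

/-! An extension of a connected group of multiplicative type by an étale unipotent group splits uniquely. -/

set_option autoImplicit false
set_option backward.isDefEq.respectTransparency false
set_option synthInstance.maxHeartbeats 200000
universe u

open TensorProduct WithConv

noncomputable section

namespace Groth.Agent.EtaleUnip

open Groth.Agent.MultCentral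

variable {k : Type u} [Field k] {A B : Type u} [CommRing A] [HopfAlgebra k A] [CommRing B] [HopfAlgebra k B]

theorem exists_aug_idem (J : Ideal A) [J.IsHopfIdeal k] [IsSemisimpleRing (A ⧸ J)] :
    ∃ w : A ⧸ J, IsIdempotentElem w ∧ RingHom.ker (Bialgebra.counitAlgHom k (A ⧸ J)) = Ideal.span {w} :=
  IsSemisimpleRing.ideal_eq_span_idempotent _

theorem eq_counit_of_semisimple (J : Ideal A) [J.IsHopfIdeal k] [IsSemisimpleRing (A ⧸ J)]
    (hB : ∀ e : B, IsIdempotentElem e → e = 0 ∨ e = 1) (f : (A ⧸ J) →ₐ[k] B)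
    (hf : (Bialgebra.counitAlgHom k B).comp f = Bialgebra.counitAlgHom k (A ⧸ J)) (x : A ⧸ J) :
    f x = algebraMap k B (Coalgebra.counit (R := k) x) := by
  obtain ⟨w, hw, hker⟩ := exists_aug_idem (k := k) J
  have hεw : Bialgebra.counitAlgHom k (A ⧸ J) w = 0 := RingHom.mem_ker.mp (hker ▸ Ideal.mem_span_singleton_self w)
  have hfw : f w = 0 := by
    refine (hB _ (hw.map f)).resolve_right fun h => ?_
    have h1 : Bialgebra.counitAlgHom k B (f w) = 0 := (AlgHom.congr_fun hf w).trans hεw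
    rw [h, map_one] at h1
    exact one_ne_zero h1
  have hmem : x - algebraMap k (A ⧸ J) (Coalgebra.counit (R := k) x) ∈ Ideal.span {w} := by
    rw [← hker, RingHom.mem_ker, map_sub, AlgHom.commutes]
    exact sub_self _
  obtain ⟨c, hc⟩ := Ideal.mem_span_singleton'.mp hmem
  have h2 := congrArg f hc
  rw [map_mul, hfw, mul_zero, map_sub, AlgHom.commutes, eq_comm, sub_eq_zero] at h2
  exact h2

/-- Two retractions agree. -/
theorem retraction_unique (ψ : B →ₐc[k] A) (J : Ideal A) [J.IsHopfIdeal k] [IsSemisimpleRing (A ⧸ J)]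
    (hJ : J = Ideal.map (ψ : B →+* A) (RingHom.ker (Bialgebra.counitAlgHom k B)))
    (hB : ∀ e : B, IsIdempotentElem e → e = 0 ∨ e = 1) (r r' : A →ₐ[k] B)
    (hr : ∀ b, r (ψ b) = b) (hr' : ∀ b, r' (ψ b) = b)
    (hεr : ∀ a, Coalgebra.counit (R := k) (r a) = Coalgebra.counit (R := k) a)
    (hεr' : ∀ a, Coalgebra.counit (R := k) (r' a) = Coalgebra.counit (R := k) a) : r = r' := by
  let d : A →ₐ[k] B := (toConv r * toConv (r'.comp (HopfAlgebra.antipodeAlgHom k A))).ofConv
  have hdψ : toConv (d.comp (ψ : B →ₐ[k] A)) = 1 := by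
    show toConv ((toConv r * toConv (r'.comp (HopfAlgebra.antipodeAlgHom k A))).ofConv.comp (ψ : B →ₐ[k] A)) = 1
    rw [AlgHom.convMul_comp_bialgHom_distrib]
    show toConv (r.comp (ψ : B →ₐ[k] A)) * toConv ((r'.comp (HopfAlgebra.antipodeAlgHom k A)).comp (ψ : B →ₐ[k] A)) = 1
    rw [show r.comp (ψ : B →ₐ[k] A) = AlgHom.id k B from AlgHom.ext hr,
      show (r'.comp (HopfAlgebra.antipodeAlgHom k A)).comp (ψ : B →ₐ[k] A) =
        (AlgHom.id k B).comp (HopfAlgebra.antipodeAlgHom k B) from AlgHom.ext fun b => by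
          show r' (HopfAlgebra.antipode k (ψ b)) = HopfAlgebra.antipode k b
          rw [← HopfFF.map_antipode' ψ b, hr'],
      HopfFF.comp_antipode_right]
  have hker : J ≤ RingHom.ker d := by
    rw [hJ]
    refine Ideal.map_le_iff_le_comap.mpr fun b hb => ?_
    show d (ψ b) = 0
    have h1 := AlgHom.congr_fun (congrArg WithConv.ofConv hdψ) b
    simp only [ofConv_toConv, AlgHom.comp_apply] at h1
    refine h1.trans ?_
    rw [AlgHom.convOne_apply, show Coalgebra.counit (R := k) b = 0 from hb, map_zero]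
  have hεd : (Bialgebra.counitAlgHom k B).comp d = Bialgebra.counitAlgHom k A := by
    have h1 := push (Bialgebra.counitAlgHom k B) (toConv r) (toConv (r'.comp (HopfAlgebra.antipodeAlgHom k A)))
    simp only [ofConv_toConv, ← AlgHom.comp_assoc] at h1
    rw [show (Bialgebra.counitAlgHom k B).comp r = Bialgebra.counitAlgHom k A from AlgHom.ext hεr,
      show (Bialgebra.counitAlgHom k B).comp r' = Bialgebra.counitAlgHom k A from AlgHom.ext hεr',
      HopfFF.comp_antipode_right] at h1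
    refine AlgHom.ext fun a => ?_
    have h2 := AlgHom.congr_fun (congrArg WithConv.ofConv h1) a
    simp only [ofConv_toConv] at h2
    exact h2.trans (AlgHom.convOne_apply a)
  have hd : toConv d = 1 := by
    refine WithConv.ofConv_injective (AlgHom.ext fun a => ?_)
    rw [AlgHom.convOne_apply]
    exact eq_counit_of_semisimple J hB (Ideal.Quotient.liftₐ J d fun x hx => hker hx)
      (AlgHom.ext fun y => by
        obtain ⟨x, rfl⟩ := Ideal.Quotient.mk_surjective y
        exact AlgHom.congr_fun hεd x) (Ideal.Quotient.mk J a)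
  have h3 : toConv r = toConv r' := by
    have h4 : toConv d * toConv r' = toConv r := by
      show toConv r * toConv (r'.comp (HopfAlgebra.antipodeAlgHom k A)) * toConv r' = _
      rw [mul_assoc, HopfFF.comp_antipode_left, mul_one]
    rw [← h4, hd, one_mul]
  exact congrArg WithConv.ofConv h3

/-- The kernel of a retraction is generated by an idempotent. -/
theorem exists_idem_ker (ψ : B →ₐc[k] A) (J : Ideal A) [J.IsHopfIdeal k] [IsSemisimpleRing (A ⧸ J)]
    (hJ : J = Ideal.map (ψ : B →+* A) (RingHom.ker (Bialgebra.counitAlgHom k B))) (r : A →ₐc[k] B)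
    (hr : ∀ b, r (ψ b) = b) : ∃ e : A, IsIdempotentElem e ∧ RingHom.ker (r : A →+* B) = Ideal.span {e} := by
  let f : A →ₐc[k] A := ψ.comp r
  let T₀ : A →ₐ[k] A := (toConv ((f : A →ₐ[k] A).comp (HopfAlgebra.antipodeAlgHom k A)) * toConv (AlgHom.id k A)).ofConv
  have hT₀ψ : toConv (T₀.comp (ψ : B →ₐ[k] A)) = 1 := by
    show toConv ((toConv ((f : A →ₐ[k] A).comp _) * toConv (AlgHom.id k A)).ofConv.comp (ψ : B →ₐ[k] A)) = 1
    rw [AlgHom.convMul_comp_bialgHom_distrib]
    show toConv (((f : A →ₐ[k] A).comp (HopfAlgebra.antipodeAlgHom k A)).comp (ψ : B →ₐ[k] A)) *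
      toConv (ψ : B →ₐ[k] A) = 1
    rw [show ((f : A →ₐ[k] A).comp (HopfAlgebra.antipodeAlgHom k A)).comp (ψ : B →ₐ[k] A) =
        (ψ : B →ₐ[k] A).comp (HopfAlgebra.antipodeAlgHom k B) from AlgHom.ext fun b => by
          show ψ (r (HopfAlgebra.antipode k (ψ b))) = ψ (HopfAlgebra.antipode k b)
          rw [← HopfFF.map_antipode' ψ b, hr],
      HopfFF.comp_antipode_left]
  have hker : J ≤ RingHom.ker T₀ := by
    rw [hJ]
    refine Ideal.map_le_iff_le_comap.mpr fun b hb => ?_
    show T₀ (ψ b) = 0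
    have h1 := AlgHom.congr_fun (congrArg WithConv.ofConv hT₀ψ) b
    simp only [ofConv_toConv, AlgHom.comp_apply] at h1
    refine h1.trans ?_
    rw [AlgHom.convOne_apply, show Coalgebra.counit (R := k) b = 0 from hb, map_zero]
  let τ : (A ⧸ J) →ₐ[k] A := Ideal.Quotient.liftₐ J T₀ fun x hx => hker hx
  obtain ⟨w, hw, hwker⟩ := exists_aug_idem (k := k) J
  refine ⟨τ w, hw.map τ, le_antisymm (fun a ha => ?_) ((Ideal.span_singleton_le_iff_mem _).mpr ?_)⟩
  · have h1 : toConv (f : A →ₐ[k] A) * toConv T₀ = toConv (AlgHom.id k A) := by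
      show _ * (toConv ((f : A →ₐ[k] A).comp _) * toConv (AlgHom.id k A)) = _
      rw [← mul_assoc, HopfFF.comp_antipode_right, one_mul]
    have h2 := AlgHom.congr_fun (congrArg WithConv.ofConv h1) a
    rw [AlgHom.convMul_apply, ofConv_toConv, ofConv_toConv, AlgHom.id_apply] at h2
    have key : ∀ z : A ⊗[k] A, Algebra.TensorProduct.lift (f : A →ₐ[k] A) T₀ (fun _ _ => Commute.all _ _) z -
        f (TensorProduct.rid k A ((Coalgebra.counit (R := k) (A := A)).lTensor A z)) ∈ Ideal.span {τ w} := by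
      intro z
      induction z with
      | zero => simp
      | add x y hx hy => rw [map_add, map_add, map_add, map_add, add_sub_add_comm]; exact add_mem hx hy
      | tmul x y =>
        rw [Algebra.TensorProduct.lift_tmul, LinearMap.lTensor_tmul, TensorProduct.rid_tmul, map_smul,
          Algebra.smul_def, mul_comm (algebraMap k A _) _]
        show f x * T₀ y - f x * _ ∈ _
        rw [← mul_sub]
        refine Ideal.mul_mem_left _ _ ?_
        have h3 : Ideal.Quotient.mk J y - algebraMap k (A ⧸ J) (Coalgebra.counit (R := k) y) ∈ Ideal.span {w} := by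
          rw [← hwker, RingHom.mem_ker, map_sub, AlgHom.commutes]
          exact sub_self _
        obtain ⟨c, hc⟩ := Ideal.mem_span_singleton'.mp h3
        refine Ideal.mem_span_singleton'.mpr ⟨τ c, ?_⟩
        rw [← map_mul, hc, map_sub, AlgHom.commutes]
        rfl
    have h4 := key (Coalgebra.comul (R := k) a)
    rw [h2, Coalgebra.lTensor_counit_comul, TensorProduct.rid_tmul, one_smul,
      show f a = ψ (r a) from rfl, show r a = 0 from ha, map_zero, sub_zero] at h4
    exact h4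
  · obtain ⟨a, rfl⟩ := Ideal.Quotient.mk_surjective w
    show r (T₀ a) = 0
    have h1 : toConv ((r : A →ₐ[k] B).comp T₀) = 1 := by
      rw [push, ofConv_toConv, ofConv_toConv, AlgHom.comp_id, ← AlgHom.comp_assoc,
        show (r : A →ₐ[k] B).comp (f : A →ₐ[k] A) = (r : A →ₐ[k] B) from AlgHom.ext fun x => hr (r x),
        HopfFF.comp_antipode_left]
    have h2 := AlgHom.congr_fun (congrArg WithConv.ofConv h1) a
    simp only [ofConv_toConv, AlgHom.comp_apply] at h2
    refine h2.trans ?_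
    have h3 : Bialgebra.counitAlgHom k (A ⧸ J) (Ideal.Quotient.mk J a) = 0 :=
      RingHom.mem_ker.mp (hwker ▸ Ideal.mem_span_singleton_self _)
    rw [AlgHom.convOne_apply, show Coalgebra.counit (R := k) a = 0 from h3, map_zero]

theorem idem_eq_of_span_eq {R : Type u} [CommRing R] {e e' : R} (he : IsIdempotentElem e) (he' : IsIdempotentElem e')
    (h : Ideal.span {e} = Ideal.span {e'}) : e = e' := by
  obtain ⟨a, ha⟩ := Ideal.mem_span_singleton'.mp (h ▸ Ideal.mem_span_singleton_self e)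
  obtain ⟨b, hb⟩ := Ideal.mem_span_singleton'.mp (h.symm ▸ Ideal.mem_span_singleton_self e')
  calc e = a * e' * e' := by rw [mul_assoc, he'.eq, ha]
    _ = e * (b * e) := by rw [ha, hb]
    _ = b * (e * e) := by ring
    _ = e' := by rw [he.eq, hb]

theorem exists_pow_mem_of_fixed {t : AlgebraicClosure k}
    (h : ∀ σ : AlgebraicClosure k ≃ₐ[k] AlgebraicClosure k, σ t = t) :
    ∃ n : ℕ, t ^ ringExpChar k ^ n ∈ Set.range (algebraMap k (AlgebraicClosure k)) := by
  classical
  let K := AlgebraicClosure k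
  have hint : IsIntegral k t := Algebra.IsIntegral.isIntegral t
  refine (minpoly.natSepDegree_eq_one_iff_pow_mem (ringExpChar k)).mp ?_
  rw [Polynomial.natSepDegree_eq_of_isAlgClosed K, Finset.card_eq_one]
  refine ⟨t, Finset.eq_singleton_iff_unique_mem.mpr ⟨?_, fun y hy => ?_⟩⟩
  · rw [Multiset.mem_toFinset, Polynomial.mem_aroots]
    exact ⟨minpoly.ne_zero hint, minpoly.aeval k t⟩
  · rw [Multiset.mem_toFinset, Polynomial.mem_aroots] at hy
    obtain ⟨σ, hσ⟩ := minpoly.exists_algEquiv_of_root' hint.isAlgebraic hy.2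
    rw [← hσ, h]

theorem idem_descend {V : Type u} [CommRing V] [Algebra k V] (x : AlgebraicClosure k ⊗[k] V) (hx : IsIdempotentElem x)
    [Nontrivial (AlgebraicClosure k ⊗[k] V)]
    (h : ∀ σ : AlgebraicClosure k ≃ₐ[k] AlgebraicClosure k,
      Algebra.TensorProduct.map (σ : AlgebraicClosure k →ₐ[k] AlgebraicClosure k) (AlgHom.id k V) x = x) :
    ∃ v : V, (1 : AlgebraicClosure k) ⊗ₜ[k] v = x := by
  classical
  let K := AlgebraicClosure k
  let e := Module.Basis.ofVectorSpace k V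
  let Bs := Algebra.TensorProduct.basis K e
  set q := ringExpChar k with hq
  haveI : ExpChar K q := expChar_of_injective_algebraMap (algebraMap k K).injective q
  haveI : ExpChar (K ⊗[k] V) q := expChar_of_injective_algebraMap (algebraMap k (K ⊗[k] V)).injective q
  have hc : ∀ i, ∃ n : ℕ, Bs.repr x i ^ q ^ n ∈ Set.range (algebraMap k K) := fun i =>
    exists_pow_mem_of_fixed fun σ => by
      have h1 := MultType.coord_map (σ : K →ₐ[k] K) e x i
      rw [h σ] at h1
      exact h1.symm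
  choose n hn using hc
  let N := (Bs.repr x).support.sup n
  have hN : ∀ i ∈ (Bs.repr x).support, ∃ c : k, algebraMap k K c = Bs.repr x i ^ q ^ N := fun i hi => by
    obtain ⟨c, hc⟩ := hn i
    refine ⟨c ^ q ^ (N - n i), ?_⟩
    rw [map_pow, hc, ← pow_mul, ← pow_add, Nat.add_sub_cancel' (Finset.le_sup hi)]
  choose! c hc using hN
  refine ⟨∑ i ∈ (Bs.repr x).support, c i • e i ^ q ^ N, ?_⟩
  have hxN : x ^ q ^ N = x := by
    obtain ⟨m, hm⟩ : ∃ m, q ^ N = m + 1 :=
      ⟨q ^ N - 1, (Nat.succ_pred_eq_of_pos (pow_pos (expChar_pos k q) N)).symm⟩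
    rw [hm, hx.pow_succ_eq]
  conv_rhs => rw [← hxN, ← Bs.linearCombination_repr x, Finsupp.linearCombination_apply, Finsupp.sum,
    sum_pow_char_pow]
  rw [TensorProduct.tmul_sum]
  refine Finset.sum_congr rfl fun i hi => ?_
  rw [_root_.smul_pow, ← hc i hi, Algebra.TensorProduct.basis_apply, Algebra.TensorProduct.tmul_pow, one_pow,
    algebraMap_smul, TensorProduct.tmul_smul]

theorem exists_quot_map (K : Type u) [Field K] [Algebra k K] (ψ : B →ₐc[k] A) (J : Ideal A) [J.IsHopfIdeal k]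
    (hJ : J = Ideal.map (ψ : B →+* A) (RingHom.ker (Bialgebra.counitAlgHom k B))) (JK : Ideal (K ⊗[k] A))
    [JK.IsHopfIdeal K]
    (hJK : JK = Ideal.map (TrigSep.bcHom K ψ : K ⊗[k] B →+* K ⊗[k] A) (RingHom.ker (Bialgebra.counitAlgHom K (K ⊗[k] B)))) :
    ∃ g : K ⊗[k] (A ⧸ J) →ₐc[K] (K ⊗[k] A) ⧸ JK, Function.Surjective g := by
  let p : K ⊗[k] A →ₐc[K] K ⊗[k] (A ⧸ J) := TrigSep.bcHom K (Bialgebra.Quotient.mkBialgHom (R := k) J)
  have hp : Function.Surjective p := fun y => by
    obtain ⟨x, hx⟩ := LinearMap.lTensor_surjective K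
      (g := ((Bialgebra.Quotient.mkBialgHom (R := k) J : A →ₐc[k] A ⧸ J) : A →ₗ[k] A ⧸ J))
      Ideal.Quotient.mk_surjective y
    exact ⟨x, (TrigSep.bcHom_apply K _ x).trans hx⟩
  have hker : ∀ x, p x = 0 → Bialgebra.Quotient.mkBialgHom (R := K) JK x = 0 := by
    intro x hx
    have hx' : x ∈ RingHom.ker (Algebra.TensorProduct.map (AlgHom.id k K) (Ideal.Quotient.mkₐ k J)) := by
      rw [RingHom.mem_ker, ← hx, TrigSep.bcHom_apply]
      rfl
    rw [Algebra.TensorProduct.lTensor_ker _ Ideal.Quotient.mk_surjective] at hx'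
    refine Ideal.Quotient.eq_zero_iff_mem.mpr (Ideal.map_le_iff_le_comap.mpr ?_ hx')
    refine (Ideal.Quotient.mkₐ_ker k J).le.trans (hJ.le.trans (Ideal.map_le_iff_le_comap.mpr fun b hb => ?_))
    show (1 : K) ⊗ₜ[k] ψ b ∈ JK
    rw [hJK]
    have h1 : (1 : K) ⊗ₜ[k] b ∈ RingHom.ker (Bialgebra.counitAlgHom K (K ⊗[k] B)) := by
      rw [RingHom.mem_ker]
      show Coalgebra.counit (R := K) ((1 : K) ⊗ₜ[k] b) = 0
      rw [TensorProduct.counit_tmul, show Coalgebra.counit (R := k) b = 0 from hb, zero_smul]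
    have h2 := Ideal.mem_map_of_mem ((TrigSep.bcHom K ψ) : K ⊗[k] B →+* K ⊗[k] A) h1
    rwa [show ((TrigSep.bcHom K ψ) : K ⊗[k] B →+* K ⊗[k] A) ((1 : K) ⊗ₜ[k] b) = (1 : K) ⊗ₜ[k] ψ b from
      (TrigSep.bcHom_apply K ψ _).trans (LinearMap.lTensor_tmul _ _ _ _)] at h2
  obtain ⟨g, hg⟩ := TrigSep.exists_factor p hp (Bialgebra.Quotient.mkBialgHom (R := K) JK) hker
  exact ⟨g, fun y => by
    obtain ⟨x, rfl⟩ := Ideal.Quotient.mk_surjective y
    exact ⟨p x, hg x⟩⟩

theorem exists_descend {C : Type u} [CommRing C] [HopfAlgebra k C] (K : Type u) [Field K] [Algebra k K]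
    (rK : K ⊗[k] A →ₐc[K] K ⊗[k] C) (hex : ∀ a : A, ∃ c : C, (1 : K) ⊗ₜ[k] c = rK ((1 : K) ⊗ₜ[k] a)) :
    ∃ rr : A →ₐc[k] C, ∀ a, (1 : K) ⊗ₜ[k] rr a = rK ((1 : K) ⊗ₜ[k] a) := by
  choose r hr using hex
  have hinc : Function.Injective fun c : C => (1 : K) ⊗ₜ[k] c :=
    Algebra.TensorProduct.includeRight_injective (R := k) (A := K) (B := C) (RingHom.injective _)
  let rA : A →ₐ[k] C :=
    { toFun := r
      map_one' := hinc (by simp only; rw [hr, ← Algebra.TensorProduct.one_def, map_one]; rfl)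
      map_mul' := fun x y => hinc (by
        simp only
        rw [hr, show (1 : K) ⊗ₜ[k] (r x * r y) = ((1 : K) ⊗ₜ[k] r x) * ((1 : K) ⊗ₜ[k] r y) by
          rw [Algebra.TensorProduct.tmul_mul_tmul, one_mul], hr, hr, ← map_mul, Algebra.TensorProduct.tmul_mul_tmul,
          one_mul])
      map_zero' := hinc (by simp only; rw [hr, TensorProduct.tmul_zero, map_zero, TensorProduct.tmul_zero])
      map_add' := fun x y => hinc (by
        simp only
        rw [hr, TensorProduct.tmul_add, TensorProduct.tmul_add, map_add, hr, hr])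
      commutes' := fun t => hinc (by
        simp only
        rw [hr, Algebra.algebraMap_eq_smul_one, Algebra.algebraMap_eq_smul_one, TensorProduct.tmul_smul,
          TensorProduct.tmul_smul, ← algebraMap_smul K t, map_smul, ← Algebra.TensorProduct.one_def, map_one,
          algebraMap_smul, Algebra.TensorProduct.one_def]) }
  have hrA : ∀ a, (1 : K) ⊗ₜ[k] rA a = rK ((1 : K) ⊗ₜ[k] a) := hr
  have hinc2 : Function.Injective fun z : C ⊗[k] C => (1 : K) ⊗ₜ[k] z :=
    Algebra.TensorProduct.includeRight_injective (R := k) (A := K) (B := C ⊗[k] C) (RingHom.injective _)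
  let rr : A →ₐc[k] C := BialgHom.ofAlgHom rA
    (AlgHom.ext fun a => (algebraMap k K).injective (by
      have h1 := CoalgHomClass.counit_comp_apply rK ((1 : K) ⊗ₜ[k] a)
      rw [← hrA, TensorProduct.counit_tmul, TensorProduct.counit_tmul, CommSemiring.counit_apply,
        ← Algebra.algebraMap_eq_smul_one, ← Algebra.algebraMap_eq_smul_one] at h1
      exact h1))
    (AlgHom.ext fun a => hinc2 (by
      have h1 := CoalgHomClass.map_comp_comul_apply rK ((1 : K) ⊗ₜ[k] a)
      rw [← hrA] at h1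
      rw [Comodule.comul_baseChange_eq, Comodule.comul_baseChange_eq, LinearMap.baseChange_tmul,
        LinearMap.baseChange_tmul] at h1
      have e : ∀ y : A ⊗[k] A, TensorProduct.map (rK : K ⊗[k] A →ₗ[K] K ⊗[k] C) (rK : K ⊗[k] A →ₗ[K] K ⊗[k] C)
          (TensorProduct.AlgebraTensorModule.distribBaseChange k K A A ((1 : K) ⊗ₜ[k] y)) =
          TensorProduct.AlgebraTensorModule.distribBaseChange k K C C
            ((1 : K) ⊗ₜ[k] Algebra.TensorProduct.map rA rA y) := by
        intro y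
        induction y with
        | zero => simp
        | add p q hp hq => simp only [TensorProduct.tmul_add, map_add, hp, hq]
        | tmul p q =>
          show rK ((1 : K) ⊗ₜ[k] p) ⊗ₜ[K] rK ((1 : K) ⊗ₜ[k] q) = _
          rw [← hrA, ← hrA]
          rfl
      rw [e] at h1
      exact (LinearEquiv.injective _ h1)))
  exact ⟨rr, hrA⟩

theorem main (hB : SGA3b.IsMultTypeConst k B) [Algebra.FiniteType k A] (ψ : B →ₐc[k] A) (hψ : Function.Injective ψ)
    (J : Ideal A) [J.IsHopfIdeal k] (hJ : J = Ideal.map (ψ : B →+* A) (RingHom.ker (Bialgebra.counitAlgHom k B)))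
    (hU : HopfRep.IsUnipotent k (A ⧸ J)) [Algebra.Etale k (A ⧸ J)]
    (hH : ∀ e : B, IsIdempotentElem e → e = 0 ∨ e = 1) :
    ∃! r : A →ₐc[k] B, r.comp ψ = BialgHom.id k B := by
  classical
  let K := AlgebraicClosure k
  haveI : Module.Finite k (A ⧸ J) := Algebra.FormallyUnramified.finite_of_free k (A ⧸ J)
  haveI : IsReduced (A ⧸ J) := Algebra.FormallyUnramified.isReduced_of_field k (A ⧸ J)
  haveI : IsArtinianRing (A ⧸ J) := IsArtinianRing.of_finite k (A ⧸ J)
  haveI : IsSemisimpleRing (A ⧸ J) := IsArtinianRing.isSemisimpleRing_of_isReduced (A ⧸ J)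
  haveI : IsReduced (K ⊗[k] (A ⧸ J)) := Algebra.FormallyUnramified.isReduced_of_field K _
  haveI : IsArtinianRing (K ⊗[k] (A ⧸ J)) := IsArtinianRing.of_finite K _
  haveI : IsSemisimpleRing (K ⊗[k] (A ⧸ J)) := IsArtinianRing.isSemisimpleRing_of_isReduced _
  let ψK : K ⊗[k] B →ₐc[K] K ⊗[k] A := TrigSep.bcHom K ψ
  have hψK : Function.Injective ψK := fun x y h => by
    rw [TrigSep.bcHom_apply, TrigSep.bcHom_apply] at h
    exact Module.Flat.lTensor_preserves_injective_linearMap (M := K) _ hψ h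
  let JK : Ideal (K ⊗[k] A) := Ideal.map (ψK : K ⊗[k] B →+* K ⊗[k] A)
    (RingHom.ker (Bialgebra.counitAlgHom K (K ⊗[k] B)))
  haveI : JK.IsHopfIdeal K := TrigSep.isHopfIdeal_map ψK
  obtain ⟨g, hg⟩ := exists_quot_map K ψ J hJ JK rfl
  haveI : IsSemisimpleRing ((K ⊗[k] A) ⧸ JK) := RingHom.isSemisimpleRing_of_surjective (g : K ⊗[k] (A ⧸ J) →+* (K ⊗[k] A) ⧸ JK) hg
  have hUK : HopfRep.IsUnipotent K ((K ⊗[k] A) ⧸ JK) :=
    TrigSep.isUnipotent_of_surjective g hg ((Comodule.unipotent_baseChange_iff (K := K)).mp hU)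
  obtain ⟨rK, hrK⟩ := SplitDiag.exists_retraction (diag_algClosure_of_multTypeConst hB) ψK hψK JK rfl hUK
  have hrψ : ∀ z, rK (ψK z) = z := fun z => DFunLike.congr_fun hrK z
  have hBK : ∀ e : K ⊗[k] B, IsIdempotentElem e → e = 0 ∨ e = 1 :=
    fun e he => UnipH7.connected_baseChange hH (Bialgebra.counitAlgHom k B) K e he
  obtain ⟨e₀, he₀, hker₀⟩ := exists_idem_ker ψK JK rfl rK hrψ
  let Sσ : (K ≃ₐ[k] K) → (K ⊗[k] A →ₐ[k] K ⊗[k] A) := fun σ =>
    Algebra.TensorProduct.map (σ : K →ₐ[k] K) (AlgHom.id k A)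
  let Tσ : (K ≃ₐ[k] K) → (K ⊗[k] B →ₐ[k] K ⊗[k] B) := fun σ =>
    Algebra.TensorProduct.map (σ : K →ₐ[k] K) (AlgHom.id k B)
  have hSS : ∀ (σ : K ≃ₐ[k] K) z, Sσ σ (Sσ σ.symm z) = z := fun σ z => by
    induction z with
    | zero => simp
    | add p q hp hq => simp only [map_add, hp, hq]
    | tmul p q => simp [Sσ]
  have hequiv : ∀ σ z, rK (Sσ σ z) = Tσ σ (rK z) := by
    intro σ
    let r' : K ⊗[k] A →ₐ[K] K ⊗[k] B :=
      { toRingHom := ((Tσ σ).comp ((rK : K ⊗[k] A →ₐ[K] K ⊗[k] B).restrictScalars k)).comp (Sσ σ.symm)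
        commutes' := fun t => by
          show Tσ σ (rK (Sσ σ.symm (algebraMap K (K ⊗[k] A) t))) = _
          rw [show Sσ σ.symm (algebraMap K (K ⊗[k] A) t) = algebraMap K (K ⊗[k] A) (σ.symm t) by
            simp [Sσ, Algebra.TensorProduct.algebraMap_apply], AlgHomClass.commutes]
          simp [Tσ, Algebra.TensorProduct.algebraMap_apply]
          exact congrArg (· ⊗ₜ[k] (1 : B)) (σ.apply_symm_apply t) }
    have hr'ψ : ∀ b, r' (ψK b) = b := by
      intro b
      show Tσ σ (rK (Sσ σ.symm (ψK b))) = b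
      have e1 : Sσ σ.symm (ψK b) = ψK (Tσ σ.symm b) := by
        induction b with
        | zero => simp
        | add p q hp hq => simp only [map_add, hp, hq]
        | tmul p q => simp [Sσ, Tσ, ψK, TrigSep.bcHom_apply]
      rw [e1, hrψ]
      clear e1
      induction b with
      | zero => simp
      | add p q hp hq => rw [map_add, map_add, hp, hq]
      | tmul p q => simp [Tσ]
    have hεr' : ∀ a, Coalgebra.counit (R := K) (r' a) = Coalgebra.counit (R := K) a := by
      intro a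
      have hn : ∀ (V : Type u) [CommRing V] [HopfAlgebra k V] (σ : K ≃ₐ[k] K) (z : K ⊗[k] V),
          Coalgebra.counit (R := K) (Algebra.TensorProduct.map (σ : K →ₐ[k] K) (AlgHom.id k V) z) =
            σ (Coalgebra.counit (R := K) z) := by
        intro V _ _ σ z
        induction z with
        | zero => simp
        | add p q hp hq => simp only [map_add, hp, hq]
        | tmul p q => simp [Algebra.smul_def]
      show Coalgebra.counit (R := K) (Tσ σ (rK (Sσ σ.symm a))) = _
      rw [hn B σ, CoalgHomClass.counit_comp_apply rK, hn A σ.symm, AlgEquiv.apply_symm_apply]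
    have heq := retraction_unique ψK JK rfl hBK r' (rK : K ⊗[k] A →ₐ[K] K ⊗[k] B) hr'ψ hrψ hεr'
      (fun a => CoalgHomClass.counit_comp_apply rK a)
    intro z
    have h1 := AlgHom.congr_fun heq (Sσ σ z)
    refine h1.symm.trans ?_
    show Tσ σ (rK (Sσ σ.symm (Sσ σ z))) = _
    rw [show Sσ σ.symm (Sσ σ z) = z by simpa using hSS σ.symm z]
  have hfix : ∀ σ : K ≃ₐ[k] K, Sσ σ e₀ = e₀ := fun σ => by
    refine idem_eq_of_span_eq (he₀.map (Sσ σ)) he₀ (le_antisymm ?_ ?_) <;>
      rw [Ideal.span_singleton_le_iff_mem]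
    · rw [← hker₀, RingHom.mem_ker]
      show rK (Sσ σ e₀) = 0
      rw [hequiv, show rK e₀ = 0 from RingHom.mem_ker.mp (hker₀ ▸ Ideal.mem_span_singleton_self e₀), map_zero]
    · have h1 : Sσ σ.symm e₀ ∈ Ideal.span {e₀} := by
        rw [← hker₀, RingHom.mem_ker]
        show rK (Sσ σ.symm e₀) = 0
        rw [hequiv, show rK e₀ = 0 from RingHom.mem_ker.mp (hker₀ ▸ Ideal.mem_span_singleton_self e₀), map_zero]
      obtain ⟨c, hc⟩ := Ideal.mem_span_singleton'.mp h1
      exact Ideal.mem_span_singleton'.mpr ⟨Sσ σ c, by rw [← map_mul, hc, hSS]⟩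
  haveI : Nontrivial (K ⊗[k] A) := (Bialgebra.counitAlgHom K (K ⊗[k] A) : _ →+* K).domain_nontrivial
  obtain ⟨e, he⟩ := idem_descend e₀ he₀ hfix
  let Q : B →ₗ[k] A ⧸ Ideal.span {e} := (Ideal.Quotient.mkₐ k (Ideal.span {e})).toLinearMap ∘ₗ (ψ : B →ₗ[k] A)
  have hπ : ∀ z : K ⊗[k] A, z ∈ Ideal.span {e₀} →
      (Ideal.Quotient.mkₐ k (Ideal.span {e})).toLinearMap.lTensor K z = 0 := by
    intro z hz
    obtain ⟨c, rfl⟩ := Ideal.mem_span_singleton'.mp hz
    rw [← he]
    clear hz
    induction c with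
    | zero => simp
    | add p q hp hq => rw [add_mul, map_add, hp, hq, add_zero]
    | tmul p q =>
      rw [Algebra.TensorProduct.tmul_mul_tmul, LinearMap.lTensor_tmul, AlgHom.toLinearMap_apply,
        show Ideal.Quotient.mkₐ k (Ideal.span {e}) (q * e) = 0 from Ideal.Quotient.eq_zero_iff_mem.mpr
          (Ideal.mul_mem_left _ _ (Ideal.mem_span_singleton_self e)), TensorProduct.tmul_zero]
  have hQK : Function.Surjective (Q.lTensor K) := by
    intro y
    obtain ⟨x, rfl⟩ := LinearMap.lTensor_surjective K (g := (Ideal.Quotient.mkₐ k (Ideal.span {e})).toLinearMap)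
      Ideal.Quotient.mk_surjective y
    refine ⟨rK x, ?_⟩
    have hmem : ψK (rK x) - x ∈ Ideal.span {e₀} := by
      rw [← hker₀, RingHom.mem_ker, map_sub]
      show rK (ψK (rK x)) - rK x = 0
      rw [hrψ, sub_self]
    have h1 := hπ _ hmem
    rw [map_sub, sub_eq_zero] at h1
    rw [← h1, show ψK (rK x) = (ψ : B →ₗ[k] A).lTensor K (rK x) from TrigSep.bcHom_apply K ψ _,
      ← LinearMap.lTensor_comp_apply]
  have hQ : Function.Surjective Q :=
    (Module.FaithfullyFlat.lTensor_surjective_iff_surjective k K Q).mp hQK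
  have hex : ∀ a : A, ∃ c : B, (1 : K) ⊗ₜ[k] c = rK ((1 : K) ⊗ₜ[k] a) := fun a => by
    obtain ⟨b, hb⟩ := hQ (Ideal.Quotient.mk (Ideal.span {e}) a)
    obtain ⟨c, hc⟩ := Ideal.mem_span_singleton'.mp (Ideal.Quotient.eq.mp hb)
    refine ⟨b, sub_eq_zero.mp ?_⟩
    have h1 : (1 : K) ⊗ₜ[k] (ψ b) - (1 : K) ⊗ₜ[k] a ∈ Ideal.span {e₀} := by
      rw [← TensorProduct.tmul_sub]
      refine Ideal.mem_span_singleton'.mpr ⟨(1 : K) ⊗ₜ[k] c, ?_⟩
      rw [← he, Algebra.TensorProduct.tmul_mul_tmul, one_mul, hc]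
      rfl
    rw [← hker₀, RingHom.mem_ker, map_sub] at h1
    rw [← hrψ ((1 : K) ⊗ₜ[k] b), show ψK ((1 : K) ⊗ₜ[k] b) = (1 : K) ⊗ₜ[k] ψ b from
      (TrigSep.bcHom_apply K ψ _).trans (LinearMap.lTensor_tmul _ _ _ _)]
    exact h1
  obtain ⟨rr, hrr⟩ := exists_descend K rK hex
  have hrr' : rr.comp ψ = BialgHom.id k B := BialgHom.ext fun c =>
    Algebra.TensorProduct.includeRight_injective (R := k) (A := K) (B := B) (RingHom.injective _) (by
      show (1 : K) ⊗ₜ[k] rr (ψ c) = (1 : K) ⊗ₜ[k] c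
      rw [hrr, show (1 : K) ⊗ₜ[k] ψ c = ψK ((1 : K) ⊗ₜ[k] c) from
        ((TrigSep.bcHom_apply K ψ _).trans (LinearMap.lTensor_tmul _ _ _ _)).symm, hrψ])
  refine ⟨rr, hrr', fun r' hr' => BialgHom.ext fun a => ?_⟩
  exact AlgHom.congr_fun (retraction_unique ψ J hJ hH (r' : A →ₐ[k] B) (rr : A →ₐ[k] B)
    (fun b => DFunLike.congr_fun hr' b) (fun b => DFunLike.congr_fun hrr' b)
    (fun x => CoalgHomClass.counit_comp_apply r' x) (fun x => CoalgHomClass.counit_comp_apply rr x)) a

end Groth.Agent.EtaleUnip
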